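import Cfsg.Agent.Lib.Invol.BrauerSuzukiLarge
import Cfsg.Agent.Lib.Invol.BaerSuzuki

/-!
# The Thompson order formula
-/

set_option autoImplicit false

namespace CfsgLib.InvChar.OrderFormula

universe u

variable {G : Type u} [Group G] [Finite G]

/-- The pairs of conjugates of `z`, `t` whose product generates a subgroup containing `x`. -/
noncomputable def count (z t x : G) : ℕ :=
  Nat.card {p : G × G // IsConj z p.1 ∧ IsConj t p.2 ∧ x ∈ Subgroup.zpowers (p.1 * p.2)}

omit [Finite G] in
theorem count_conj (z t x g : G) : count z t (g * x * g⁻¹) = count z t x := by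
  refine (Nat.card_congr (Equiv.subtypeEquiv ((MulAut.conj g).toEquiv.prodCongr
    (MulAut.conj g).toEquiv) fun p => ?_)).symm
  simp only [MulEquiv.toEquiv_eq_coe, Equiv.prodCongr_apply, Prod.map_fst, Prod.map_snd,
    EquivLike.coe_coe, MulAut.conj_apply]
  have e : ∀ a b : G, IsConj a (g * b * g⁻¹) ↔ IsConj a b := fun a b =>
    ⟨fun h => h.trans (isConj_iff.2 ⟨g⁻¹, by group⟩), fun h => h.trans (isConj_iff.2 ⟨g, rfl⟩)⟩
  rw [e, e, show g * p.1 * g⁻¹ * (g * p.2 * g⁻¹) = g * (p.1 * p.2) * g⁻¹ by group]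
  constructor
  · rintro ⟨a, b, c⟩
    obtain ⟨k, hk⟩ := Subgroup.mem_zpowers_iff.1 c
    exact ⟨a, b, Subgroup.mem_zpowers_iff.2 ⟨k, by rw [conj_zpow, hk]⟩⟩
  · rintro ⟨a, b, c⟩
    obtain ⟨k, hk⟩ := Subgroup.mem_zpowers_iff.1 c
    rw [conj_zpow] at hk
    exact ⟨a, b, Subgroup.mem_zpowers_iff.2 ⟨k, mul_left_cancel (mul_right_cancel hk)⟩⟩

/-- Two nonconjugate involutions have a product of even order. -/
theorem exists_involution {a b : G} (ha : orderOf a = 2) (hb : orderOf b = 2) (hab : ¬ IsConj a b) :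
    ∃ x : G, orderOf x = 2 ∧ x ∈ Subgroup.zpowers (a * b) := by
  set y := a * b with hy
  rcases Nat.even_or_odd (orderOf y) with ⟨k, hk⟩ | ⟨k, hk⟩
  · have hk0 : 0 < k := by have := orderOf_pos y; omega
    exact ⟨y ^ k, by
      rw [orderOf_pow_of_dvd hk0.ne' ⟨2, by omega⟩, hk, ← two_mul, Nat.mul_div_cancel _ hk0],
      Subgroup.pow_mem _ (Subgroup.mem_zpowers _) k⟩
  · refine absurd (isConj_iff.2 ⟨y ^ k, ?_⟩) hab
    have haa := CfsgLib.Invol.mul_self_eq_one ha
    have hbb := CfsgLib.Invol.mul_self_eq_one hb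
    have hinv : a * y * a⁻¹ = y⁻¹ := by
      rw [hy, mul_inv_rev, inv_eq_of_mul_eq_one_left haa, inv_eq_of_mul_eq_one_left hbb,
        ← mul_assoc a a b, haa, one_mul]
    have h1 : a * (y ^ k)⁻¹ * a⁻¹ = y ^ k := by
      have h2 : (a * y * a⁻¹) ^ k = (y ^ k)⁻¹ := by rw [hinv, inv_pow]
      rw [conj_pow] at h2
      calc a * (y ^ k)⁻¹ * a⁻¹ = (a * y ^ k * a⁻¹)⁻¹ := by group
        _ = y ^ k := by rw [h2, inv_inv]
    have h3 : y ^ (k + k) * y = 1 := by
      rw [← pow_succ, show k + k + 1 = orderOf y by omega, pow_orderOf_eq_one]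
    calc y ^ k * a * (y ^ k)⁻¹ = y ^ k * (a * (y ^ k)⁻¹ * a⁻¹) * a := by group
      _ = y ^ (k + k) * a := by rw [h1, ← pow_add]
      _ = y⁻¹ * a := by rw [eq_inv_of_mul_eq_one_left h3]
      _ = b := by rw [hy, mul_inv_rev, inv_eq_of_mul_eq_one_left hbb, inv_mul_cancel_right]

/-- A cyclic subgroup has at most one involution. -/
theorem involution_unique {y x x' : G} (hx : orderOf x = 2) (hx' : orderOf x' = 2)
    (h : x ∈ Subgroup.zpowers y) (h' : x' ∈ Subgroup.zpowers y) : x = x' := by
  have hm := CfsgLib.Invol.BSLarge.mem_zpowers_of_orderOf_eq h h' (hx'.trans hx.symm)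
  obtain ⟨k, rfl⟩ := Subgroup.mem_zpowers_iff.1 hm
  have hxx : x ^ (2 : ℤ) = 1 := by rw [zpow_two]; exact CfsgLib.Invol.mul_self_eq_one hx
  rcases Int.even_or_odd k with ⟨m, rfl⟩ | ⟨m, rfl⟩
  · exfalso
    rw [← two_mul, zpow_mul, hxx, one_zpow, orderOf_one] at hx'
    omega
  · rw [zpow_add_one, zpow_mul, hxx, one_zpow, one_mul]

/-- The Thompson order formula. -/
theorem card_group (z t : G) (hz : orderOf z = 2) (ht : orderOf t = 2) (hzt : ¬ IsConj z t)
    (hcl : ∀ x : G, orderOf x = 2 → IsConj x z ∨ IsConj x t) :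
    Nat.card G = count z t z * Nat.card (Subgroup.centralizer ({t} : Set G)) +
      count z t t * Nat.card (Subgroup.centralizer ({z} : Set G)) := by
  classical
  haveI := Fintype.ofFinite G
  set Cz := Nat.card (Subgroup.centralizer ({z} : Set G))
  set Ct := Nat.card (Subgroup.centralizer ({t} : Set G))
  set Z := Finset.univ.filter fun x : G => IsConj z x with hZ
  set T := Finset.univ.filter fun x : G => IsConj t x with hT
  have hcardcl : ∀ a : G, (Finset.univ.filter fun x : G => IsConj a x).card *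
      Nat.card (Subgroup.centralizer ({a} : Set G)) = Nat.card G := fun a => by
    rw [← Fintype.card_subtype, ← Nat.card_eq_fintype_card, Subgroup.nat_card_centralizer_nat_card_stabilizer]
    have hstab := Nat.card_congr (MulAction.orbitProdStabilizerEquivGroup (ConjAct G) a)
    rw [Nat.card_prod] at hstab
    have e : Nat.card {v // IsConj a v} = Nat.card (MulAction.orbit (ConjAct G) a) :=
      Nat.card_congr (Equiv.subtypeEquivRight fun v => by rw [ConjAct.mem_orbit_conjAct, isConj_comm])
    rw [e]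
    exact hstab
  have hord : ∀ a v : G, IsConj a v → orderOf a = orderOf v := fun a v h => by
    obtain ⟨c, rfl⟩ := isConj_iff.1 h
    exact (CfsgLib.Invol.orderOf_conj c a).symm
  have hsplit : (Finset.univ.filter fun x : G => orderOf x = 2) = Z ∪ T := by
    ext x
    simp only [hZ, hT, Finset.mem_filter, Finset.mem_univ, true_and, Finset.mem_union]
    refine ⟨fun h => (hcl x h).imp IsConj.symm IsConj.symm, ?_⟩
    rintro (h | h)
    · rw [← hord _ _ h, hz]
    · rw [← hord _ _ h, ht]
  have hdisj : Disjoint Z T := by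
    rw [Finset.disjoint_left]
    intro x hx hx'
    simp only [hZ, hT, Finset.mem_filter, Finset.mem_univ, true_and] at hx hx'
    exact hzt (hx.trans hx'.symm)
  have hcount : ∀ x, count z t x =
      ((Z ×ˢ T).filter fun p => x ∈ Subgroup.zpowers (p.1 * p.2)).card := fun x => by
    rw [count, Nat.card_eq_fintype_card, Fintype.card_subtype]
    congr 1
    ext p
    simp only [hZ, hT, Finset.mem_filter, Finset.mem_univ, true_and, Finset.mem_product]
    tauto
  have hall : (Z ×ˢ T).card = ∑ x ∈ Finset.univ.filter (fun x : G => orderOf x = 2), count z t x := by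
    rw [Finset.sum_congr rfl fun x _ => hcount x]
    simp only [Finset.card_eq_sum_ones (Finset.filter _ (Z ×ˢ T))]
    simp only [Finset.sum_filter]
    rw [← Finset.sum_filter, Finset.sum_comm, Finset.card_eq_sum_ones]
    refine Finset.sum_congr rfl fun p hp => ?_
    simp only [hZ, hT, Finset.mem_product, Finset.mem_filter, Finset.mem_univ, true_and] at hp
    obtain ⟨x, hx2, hxm⟩ := exists_involution ((hord _ _ hp.1).symm.trans hz)
      ((hord _ _ hp.2).symm.trans ht)
      (fun h => hzt (hp.1.trans (h.trans hp.2.symm)))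
    rw [← Finset.sum_filter, Finset.sum_const, smul_eq_mul, mul_one]
    refine (Finset.card_eq_one.2 ⟨x, ?_⟩).symm
    ext x'
    simp only [Finset.mem_filter, Finset.mem_univ, true_and, Finset.mem_singleton]
    exact ⟨fun h => involution_unique h.1 hx2 h.2 hxm, fun h => h ▸ ⟨hx2, hxm⟩⟩
  rw [hsplit, Finset.sum_union hdisj, Finset.card_product] at hall
  have hsum : ∀ (a : G), ∑ x ∈ Finset.univ.filter (fun x : G => IsConj a x), count z t x =
      (Finset.univ.filter fun x : G => IsConj a x).card * count z t a := fun a => by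
    rw [Finset.sum_congr rfl (g := fun _ => count z t a), Finset.sum_const, smul_eq_mul]
    intro x hx
    obtain ⟨g, rfl⟩ := isConj_iff.1 (Finset.mem_filter.1 hx).2
    exact count_conj z t a g
  rw [hZ, hsum z, hT, hsum t] at hall
  have h1 := hcardcl z
  have h2 := hcardcl t
  have hG : 0 < Nat.card G := Nat.card_pos
  apply Nat.eq_of_mul_eq_mul_left hG
  calc Nat.card G * Nat.card G
      = (Z.card * T.card) * (Cz * Ct) := by
        calc Nat.card G * Nat.card G = (Z.card * Cz) * (T.card * Ct) := by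
              rw [hZ, hT, h1, h2]
          _ = _ := by ring
    _ = (Z.card * count z t z + T.card * count z t t) * (Cz * Ct) := by rw [hZ, hT, hall]
    _ = (Z.card * Cz) * (count z t z * Ct) + (T.card * Ct) * (count z t t * Cz) := by ring
    _ = Nat.card G * (count z t z * Ct + count z t t * Cz) := by rw [hZ, hT, h1, h2]; ring

end CfsgLib.InvChar.OrderFormula
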