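import Mathlib.GroupTheory.SpecificGroups.Alternating
import Mathlib.Tactic

/-!
# Finite facts about the alternating group of degree five
-/

set_option autoImplicit false
set_option maxRecDepth 4000

namespace CfsgLib.InvChar.J2Order

theorem alt_card : Fintype.card (alternatingGroup (Fin 5)) = 60 := by decide +kernel

theorem alt_card_invol :
    (Finset.univ.filter fun a : alternatingGroup (Fin 5) => a * a = 1 ∧ a ≠ 1).card = 15 := by
  decide +kernel

theorem alt_cent : ∀ a : alternatingGroup (Fin 5), a * a = 1 → a ≠ 1 →
    (Finset.univ.filter fun b : alternatingGroup (Fin 5) => a * b = b * a).card = 4 ∧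
    (∀ b ∈ Finset.univ.filter (fun b : alternatingGroup (Fin 5) => a * b = b * a), b * b = 1 ∧
      ∀ c ∈ Finset.univ.filter (fun b : alternatingGroup (Fin 5) => a * b = b * a), b * c = c * b) := by
  decide +kernel

theorem alt_pairs :
    (((Finset.univ.filter fun a : alternatingGroup (Fin 5) => a * a = 1 ∧ a ≠ 1) ×ˢ
      (Finset.univ.filter fun b : alternatingGroup (Fin 5) => b * b = 1)).filter
      fun p => (p.1 * p.2) ^ 15 = 1).card = 195 := by
  decide +kernel

end CfsgLib.InvChar.J2Order
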