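import Cfsg.Agent.Lib.InvChar.J2Order.ExtraspecialSide

/-!
# Counting pairs around the first class
-/

set_option autoImplicit false

namespace CfsgLib.InvChar.J2Order

universe u

variable {G : Type u} [Group G] [Finite G]

namespace CzHyp

variable {z t : G} {Q : Subgroup G}
  {f : ↥(Subgroup.centralizer ({z} : Set G)) →* alternatingGroup (Fin 5)}
  {V B : Subgroup G} (hc : CzHyp z t Q f) (ht : CtHyp z t V B)

include hc in
theorem conj_mem {g q : G} (hg : g ∈ Subgroup.centralizer ({z} : Set G)) (hq : q ∈ Q) :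
    g * q * g⁻¹ ∈ Q :=
  (hc.hker (⟨g, hg⟩ * ⟨q, hc.hQle hq⟩ * ⟨g, hg⟩⁻¹)).1 (by
    rw [map_mul, map_mul, (hc.hker ⟨q, hc.hQle hq⟩).2 hq, mul_one, map_inv, mul_inv_cancel])

include hc ht in
/-- There are eight involutions in each coset above an involution of the quotient. -/
theorem coset_count {v : G} (hvC : v ∈ Subgroup.centralizer ({z} : Set G)) (hv2 : orderOf v = 2)
    (hvQ : v ∉ Q) :
    Nat.card {q : G // q ∈ Q ∧ q * v * (q * v) = 1} = 8 := by
  classical
  haveI := Fintype.ofFinite G
  obtain ⟨D, hD4, hzD, hD, hDmax⟩ := hc.cent_Q ht hvC hv2 hvQ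
  have hvv := CfsgLib.Invol.mul_self_eq_one hv2
  have hvi : v⁻¹ = v := inv_eq_of_mul_eq_one_left hvv
  have hzv : Commute v z := Subgroup.mem_centralizer_singleton_iff.1 hvC
  rw [Nat.card_eq_fintype_card, Fintype.card_subtype]
  set S := Finset.univ.filter fun q : G => q ∈ Q ∧ q * v * (q * v) = 1 with hS
  set W := Finset.univ.filter fun q : G => q ∈ Q ∧ (Commute q v ∨ v * q * v = q * z) with hW
  have hSW : S ⊆ W := by
    intro q hq
    obtain ⟨hqQ, hq2⟩ := (Finset.mem_filter.1 hq).2
    refine Finset.mem_filter.2 ⟨Finset.mem_univ _, hqQ, ?_⟩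
    have h1 : v * q * v = q⁻¹ := by
      apply eq_inv_of_mul_eq_one_right
      rw [← hq2]; group
    rcases hc.hsq q hqQ with e | e
    · left
      rw [inv_eq_of_mul_eq_one_left e] at h1
      show q * v = v * q
      calc q * v = v * q * v * v := by rw [h1]
        _ = v * q * (v * v) := by group
        _ = v * q := by rw [hvv, mul_one]
    · right
      rw [h1]
      have hzz : z * z = 1 := CfsgLib.Invol.mul_self_eq_one ht.hz
      apply inv_eq_of_mul_eq_one_right
      calc q * (q * z) = (q * q) * z := by group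
        _ = 1 := by rw [e, hzz]
  have hW8 : W.card ≤ 8 := by
    have hsub : (W.filter fun q => Commute q v).card ≤ 4 := by
      refine le_trans (Finset.card_le_card (t := Finset.univ.filter fun q : G => q ∈ D) fun q hq => ?_) ?_
      · obtain ⟨hq1, hq2⟩ := Finset.mem_filter.1 hq
        exact Finset.mem_filter.2 ⟨Finset.mem_univ _, hDmax q (Finset.mem_filter.1 hq1).2.1 hq2⟩
      · rw [← Fintype.card_subtype, ← Nat.card_eq_fintype_card]; exact hD4.le
    have hsub2 : (W.filter fun q => ¬ Commute q v).card ≤ 4 := by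
      rcases (W.filter fun q => ¬ Commute q v).eq_empty_or_nonempty with e | ⟨w, hw⟩
      · rw [e]; simp
      obtain ⟨hw1, hw2⟩ := Finset.mem_filter.1 hw
      obtain ⟨hwQ, hw3⟩ := (Finset.mem_filter.1 hw1).2
      have hwz := hw3.resolve_left hw2
      refine le_trans (Finset.card_le_card_of_injOn (fun q => q * w⁻¹)
        (t := Finset.univ.filter fun q : G => q ∈ D) ?_ ?_) ?_
      · intro q hq
        obtain ⟨hq1, hq2⟩ := Finset.mem_filter.1 hq
        obtain ⟨hqQ, hq3⟩ := (Finset.mem_filter.1 hq1).2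
        have hqz := hq3.resolve_left hq2
        refine Finset.mem_filter.2 ⟨Finset.mem_univ _,
          hDmax _ (Q.mul_mem hqQ (Q.inv_mem hwQ)) ?_⟩
        have hzw : Commute w z := hc.z_comm hwQ
        have h1 : v * (q * w⁻¹) * v = q * w⁻¹ := by
          calc v * (q * w⁻¹) * v = (v * q * v) * (v⁻¹ * w⁻¹ * v⁻¹) * (v * v) := by group
            _ = (q * z) * (v * w * v)⁻¹ := by rw [hvv, mul_one, hqz]; group
            _ = (q * z) * (w * z)⁻¹ := by rw [hwz]
            _ = q * w⁻¹ := by group
        show q * w⁻¹ * v = v * (q * w⁻¹)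
        calc q * w⁻¹ * v = v * (q * w⁻¹) * v * v := by rw [h1]
          _ = v * (q * w⁻¹) * (v * v) := by group
          _ = v * (q * w⁻¹) := by rw [hvv, mul_one]
      · intro a _ b _ hab; exact mul_right_cancel hab
      · rw [← Fintype.card_subtype, ← Nat.card_eq_fintype_card]; exact hD4.le
    have := Finset.card_filter_add_card_filter_not (s := W) (fun q => Commute q v)
    omega
  have h8 : 8 ≤ S.card := by
    let φ : {q : G // q ∈ Q} → {q : G // q ∈ S} := fun q => ⟨q.1 * v * q.1⁻¹ * v,
      Finset.mem_filter.2 ⟨Finset.mem_univ _, by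
        have h1 := hc.conj_mem hvC (Q.inv_mem q.2)
        rw [hvi] at h1
        have h2 := Q.mul_mem q.2 h1
        convert h2 using 1; group, by
        rw [mul_assoc (q.1 * v * q.1⁻¹) v v, hvv, mul_one]
        calc q.1 * v * q.1⁻¹ * (q.1 * v * q.1⁻¹) = q.1 * (v * v) * q.1⁻¹ := by group
          _ = 1 := by rw [hvv]; group⟩⟩
    have hfib : ∀ b : {q : G // q ∈ S}, (Finset.univ.filter fun a => φ a = b).card ≤ 4 := by
      intro b
      rcases (Finset.univ.filter fun a => φ a = b).eq_empty_or_nonempty with e | ⟨w, hw⟩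
      · rw [e]; simp
      refine le_trans (Finset.card_le_card_of_injOn (fun a => w.1⁻¹ * a.1)
        (t := Finset.univ.filter fun q : G => q ∈ D) ?_ ?_) ?_
      · intro a ha
        have h1 := congrArg Subtype.val ((Finset.mem_filter.1 ha).2.trans (Finset.mem_filter.1 hw).2.symm)
        change a.1 * v * a.1⁻¹ * v = w.1 * v * w.1⁻¹ * v at h1
        have h2 := mul_right_cancel h1
        refine Finset.mem_filter.2 ⟨Finset.mem_univ _, hDmax _ (Q.mul_mem (Q.inv_mem w.2) a.2) ?_⟩
        show w.1⁻¹ * a.1 * v = v * (w.1⁻¹ * a.1)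
        calc w.1⁻¹ * a.1 * v = w.1⁻¹ * (a.1 * v * a.1⁻¹) * a.1 := by group
          _ = w.1⁻¹ * (w.1 * v * w.1⁻¹) * a.1 := by rw [h2]
          _ = v * (w.1⁻¹ * a.1) := by group
      · intro a _ a' _ haa; exact Subtype.ext (mul_left_cancel haa)
      · rw [← Fintype.card_subtype, ← Nat.card_eq_fintype_card]; exact hD4.le
    have h := Finset.card_le_mul_card_image (f := φ) Finset.univ 4 (fun b _ => hfib b)
    have h2 := Finset.card_le_univ (Finset.univ.image φ)
    rw [Finset.card_univ, ← Nat.card_eq_fintype_card] at h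
    rw [Fintype.card_coe] at h2
    have hQ32 : Nat.card {q : G // q ∈ Q} = 32 := hc.hQ
    omega
  have := Finset.card_le_card hSW
  omega

include hc ht in
theorem count_z : OrderFormula.count z t z = 960 := by
  classical
  haveI := Fintype.ofFinite G
  have hz1 := hc.z_ne ht
  have hzz : z * z = 1 := CfsgLib.Invol.mul_self_eq_one ht.hz
  obtain ⟨hI12, honly⟩ := hc.involution_count ht
  set T := Finset.univ.filter fun v : G => v ∈ Subgroup.centralizer ({z} : Set G) ∧ orderOf v = 2 ∧ v ∉ Q
    with hT
  set I := Finset.univ.filter fun q : G => q ∈ Q ∧ q * q = 1 with hI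
  have hI' : I.card = 12 := by
    rw [← hI12, Nat.card_eq_fintype_card, Fintype.card_subtype]
  -- the pairs
  have hset : OrderFormula.count z t z = ((T ×ˢ I).filter fun p => ¬ Commute p.2 p.1).card := by
    rw [OrderFormula.count, Nat.card_eq_fintype_card, Fintype.card_subtype]
    refine Finset.card_bij' (fun p _ => (p.2, p.1)) (fun p _ => (p.2, p.1)) ?_ ?_ (fun _ _ => rfl) (fun _ _ => rfl)
    · rintro ⟨u, v⟩ hp
      obtain ⟨hu, hv, hm⟩ := (Finset.mem_filter.1 hp).2
      change IsConj z u at hu
      change IsConj t v at hv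
      change z ∈ Subgroup.zpowers (u * v) at hm
      have hu2 : orderOf u = 2 := (conj_order hu).symm.trans ht.hz
      have hv2 : orderOf v = 2 := (conj_order hv).symm.trans ht.ht
      have huu := CfsgLib.Invol.mul_self_eq_one hu2
      have hvv := CfsgLib.Invol.mul_self_eq_one hv2
      obtain ⟨k, hk⟩ := Subgroup.mem_zpowers_iff.1 hm
      have hinv : u * (u * v) * u⁻¹ = (u * v)⁻¹ := by
        rw [mul_inv_rev, inv_eq_of_mul_eq_one_left huu, inv_eq_of_mul_eq_one_left hvv,
          ← mul_assoc u u v, huu, one_mul]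
      have huz : u * z * u⁻¹ = z := by
        rw [← hk, ← conj_zpow, hinv, inv_zpow, hk, inv_eq_of_mul_eq_one_left hzz]
      have huC : u ∈ Subgroup.centralizer ({z} : Set G) :=
        Subgroup.mem_centralizer_singleton_iff.2 (mul_inv_eq_iff_eq_mul.1 huz)
      have hvC : v ∈ Subgroup.centralizer ({z} : Set G) := by
        have h1 : u * v ∈ Subgroup.centralizer ({z} : Set G) := Subgroup.mem_centralizer_singleton_iff.2 (by
          rw [← hk]; exact ((Commute.refl (u * v)).zpow_right k).eq)
        have := Subgroup.mul_mem _ (Subgroup.inv_mem _ huC) h1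
        rwa [inv_mul_cancel_left] at this
      have huQ : u ∈ Q := by_contra fun hn =>
        ht.hzt (hu.trans (hc.hCz u huC hu2 hn))
      have hvQ : v ∉ Q := fun hn => ht.hzt ((hv.trans (hc.hQz v hn hv2)).symm)
      refine Finset.mem_filter.2 ⟨Finset.mem_product.2 ⟨?_, ?_⟩, fun hcom => ?_⟩
      · simp [hT, hvC, hv2, hvQ]
      · simp [hI, huQ, huu]
      · change Commute u v at hcom
        have hw : (u * v) * (u * v) = 1 := by
          rw [show u * v * (u * v) = u * (v * u) * v by group, ← hcom.eq,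
            show u * (u * v) * v = (u * u) * (v * v) by group, huu, hvv, mul_one]
        have hne : u * v ≠ 1 := fun hh => hvQ (by
          rw [eq_inv_of_mul_eq_one_right hh]; exact Q.inv_mem huQ)
        have hz' := OrderFormula.involution_unique ht.hz
          (CfsgLib.Invol.orderOf_eq_two hne hw) hm (Subgroup.mem_zpowers _)
        exact hvQ (by
          have := Q.mul_mem (Q.inv_mem huQ) hc.hzQ
          rwa [show u⁻¹ * z = v by rw [hz', inv_mul_cancel_left]] at this)
    · rintro ⟨v, u⟩ hp
      obtain ⟨hp1, hncom⟩ := Finset.mem_filter.1 hp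
      obtain ⟨hvT, huI⟩ := Finset.mem_product.1 hp1
      obtain ⟨hvC, hv2, hvQ⟩ := (Finset.mem_filter.1 hvT).2
      obtain ⟨huQ, huu⟩ := (Finset.mem_filter.1 huI).2
      change ¬ Commute u v at hncom
      have hvv := CfsgLib.Invol.mul_self_eq_one hv2
      have hvi : v⁻¹ = v := inv_eq_of_mul_eq_one_left hvv
      have hzv : Commute v z := Subgroup.mem_centralizer_singleton_iff.1 hvC
      have hu1 : u ≠ 1 := fun hh => hncom (hh ▸ Commute.one_left v)
      have huz : u ≠ z := fun hh => hncom (hh ▸ hzv.symm)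
      refine Finset.mem_filter.2 ⟨Finset.mem_univ _,
        (hc.hQz u huQ (CfsgLib.Invol.orderOf_eq_two hu1 huu)).symm,
        (hc.hCz v hvC hv2 hvQ).symm, ?_⟩
      set u' := v * u * v with hu'
      have hu'Q : u' ∈ Q := by have := hc.conj_mem hvC huQ; rwa [hvi] at this
      have hu'2 : u' * u' = 1 := by
        rw [hu', show v * u * v * (v * u * v) = v * u * (v * v) * u * v by group, hvv, mul_one,
          show v * u * u * v = v * (u * u) * v by group, huu, mul_one, hvv]
      have hu'ne : u' ≠ u := fun hh => hncom (by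
        show u * v = v * u
        calc u * v = u' * v := by rw [hh]
          _ = v * u * v * v := by rw [hu']
          _ = v * u * (v * v) := by group
          _ = v * u := by rw [hvv, mul_one])
      have hsq : u * v * (u * v) = u * u' := by rw [hu']; group
      have hc2 : u * u' = z ∨ (u * u') * (u * u') = z := by
        by_cases hcom : Commute u u'
        · left
          rcases honly u huQ huu hu1 huz u' hu'Q hu'2 hcom with e | e | e | e
          · exfalso
            apply hu1
            have : v * u * v = 1 := e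
            calc u = v⁻¹ * (v * u * v) * v⁻¹ := by group
              _ = 1 := by rw [this, hvi, mul_one, hvv]
          · exfalso
            apply huz
            calc u = v⁻¹ * (v * u * v) * v⁻¹ := by group
              _ = v⁻¹ * z * v⁻¹ := by rw [← hu', e]
              _ = z := by rw [hvi, hzv.eq, mul_assoc, hvv, mul_one]
          · exact absurd e hu'ne
          · rw [e, ← mul_assoc, huu, one_mul]
        · right
          have h1 := (hc.hcomm u huQ u' hu'Q).resolve_left hcom
          calc u * u' * (u * u') = (u * u') * (u * u') := rfl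
            _ = (u' * u * z) * (u * u') := by rw [h1]
            _ = u' * u * (z * u) * u' := by group
            _ = u' * u * (u * z) * u' := by rw [(hc.z_comm huQ).eq]
            _ = u' * (u * u) * (z * u') := by group
            _ = u' * (u' * z) := by rw [huu, mul_one, (hc.z_comm hu'Q).eq]
            _ = z := by rw [← mul_assoc, hu'2, one_mul]
      rw [← hsq] at hc2
      show z ∈ Subgroup.zpowers (u * v)
      rcases hc2 with e | e
      · rw [← e]; exact Subgroup.mul_mem _ (Subgroup.mem_zpowers _) (Subgroup.mem_zpowers _)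
      · rw [← e]
        exact Subgroup.mul_mem _ (Subgroup.mul_mem _ (Subgroup.mem_zpowers _) (Subgroup.mem_zpowers _))
          (Subgroup.mul_mem _ (Subgroup.mem_zpowers _) (Subgroup.mem_zpowers _))
  -- per involution
  have hper : ∀ v ∈ T, (I.filter fun q => ¬ Commute q v).card = 8 := by
    intro v hv
    obtain ⟨hvC, hv2, hvQ⟩ := (Finset.mem_filter.1 hv).2
    obtain ⟨D, hD4, hzD, hD, hDmax⟩ := hc.cent_Q ht hvC hv2 hvQ
    have hf : I.filter (fun q => Commute q v) = Finset.univ.filter fun q : G => q ∈ D := by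
      ext q
      simp only [hI, Finset.mem_filter, Finset.mem_univ, true_and]
      exact ⟨fun h => hDmax q h.1.1 h.2, fun h => ⟨⟨(hD q h).1, (hD q h).2.2⟩, (hD q h).2.1⟩⟩
    have := Finset.card_filter_add_card_filter_not (s := I) (fun q => Commute q v)
    rw [hf, hI', ← Fintype.card_subtype, ← Nat.card_eq_fintype_card] at this
    have : Nat.card {q : G // q ∈ D} = 4 := hD4
    omega
  -- the involutions outside
  have hT120 : T.card = 120 := by
    let F : G → alternatingGroup (Fin 5) := fun g =>
      if hg : g ∈ Subgroup.centralizer ({z} : Set G) then f ⟨g, hg⟩ else 1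
    have hF : ∀ (g : G) (hg : g ∈ Subgroup.centralizer ({z} : Set G)), F g = f ⟨g, hg⟩ := fun g hg =>
      dif_pos hg
    rw [Finset.card_eq_sum_card_fiberwise (f := F)
      (t := Finset.univ.filter fun a : alternatingGroup (Fin 5) => a * a = 1 ∧ a ≠ 1) ?_,
      Finset.sum_congr rfl (g := fun _ => 8) ?_, Finset.sum_const, alt_card_invol, smul_eq_mul]
    · intro a ha
      obtain ⟨haa, ha1⟩ := (Finset.mem_filter.1 ha).2
      obtain ⟨⟨v, hvC⟩, hva, hvv⟩ := hc.hlift a haa ha1
      have hvQ : v ∉ Q := fun hh => ha1 (hva.symm.trans ((hc.hker _).2 hh))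
      have hv2 : orderOf v = 2 := CfsgLib.Invol.orderOf_eq_two (fun hh => hvQ (hh ▸ Q.one_mem))
        (congrArg Subtype.val hvv)
      rw [← hc.coset_count ht hvC hv2 hvQ, Nat.card_eq_fintype_card, Fintype.card_subtype]
      refine Finset.card_bij' (fun w _ => w * v) (fun q _ => q * v) ?_ ?_ ?_ ?_
      · intro w hw
        obtain ⟨hwT, hwa⟩ := Finset.mem_filter.1 hw
        obtain ⟨hwC, hw2, -⟩ := (Finset.mem_filter.1 hwT).2
        refine Finset.mem_filter.2 ⟨Finset.mem_univ _, ?_, ?_⟩
        · refine (hc.hker (⟨w, hwC⟩ * ⟨v, hvC⟩)).1 ?_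
          rw [map_mul, ← hF w hwC, hwa, hva, haa]
        · rw [mul_assoc w v v, CfsgLib.Invol.mul_self_eq_one hv2, mul_one,
            CfsgLib.Invol.mul_self_eq_one hw2]
      · intro q hq
        obtain ⟨hqQ, hq2⟩ := (Finset.mem_filter.1 hq).2
        have hqvC := Subgroup.mul_mem _ (hc.hQle hqQ) hvC
        have hfq : f ⟨q * v, hqvC⟩ = a := by
          rw [show (⟨q * v, hqvC⟩ : ↥(Subgroup.centralizer ({z} : Set G))) =
            ⟨q, hc.hQle hqQ⟩ * ⟨v, hvC⟩ from rfl, map_mul, (hc.hker ⟨q, hc.hQle hqQ⟩).2 hqQ, one_mul, hva]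
        have hqvQ : q * v ∉ Q := fun hh => ha1 (hfq.symm.trans ((hc.hker _).2 hh))
        refine Finset.mem_filter.2 ⟨?_, by rw [hF _ hqvC, hfq]⟩
        simp only [hT, Finset.mem_filter, Finset.mem_univ, true_and]
        exact ⟨hqvC, CfsgLib.Invol.orderOf_eq_two (fun hh => hqvQ (hh ▸ Q.one_mem)) hq2, hqvQ⟩
      · intro w _; rw [mul_assoc, CfsgLib.Invol.mul_self_eq_one hv2, mul_one]
      · intro q _; rw [mul_assoc, CfsgLib.Invol.mul_self_eq_one hv2, mul_one]
    · intro w hw
      obtain ⟨hwC, hw2, hwQ⟩ := (Finset.mem_filter.1 hw).2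
      refine Finset.mem_filter.2 ⟨Finset.mem_univ _, ?_, fun hh => hwQ ((hc.hker _).1 ((hF w hwC).symm.trans hh))⟩
      rw [hF w hwC, ← map_mul, show (⟨w, hwC⟩ : ↥(Subgroup.centralizer ({z} : Set G))) * ⟨w, hwC⟩ = 1
        from Subtype.ext (CfsgLib.Invol.mul_self_eq_one hw2), map_one]
  rw [hset, Finset.card_filter, Finset.sum_product,
    Finset.sum_congr rfl (g := fun _ => 8) (fun v hv => by rw [← hper v hv, Finset.card_filter]),
    Finset.sum_const, hT120, smul_eq_mul]

end CzHyp

end CfsgLib.InvChar.J2Order
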