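import Cfsg.Agent.Lib.InvChar.J2Order.TorusSide
import Cfsg.Prelude.Def_Local
import Cfsg.Prelude.Def_Transfer

/-!
# The centralizer of the first class
-/

set_option autoImplicit false

namespace CfsgLib.InvChar.J2Order

universe u

variable {G : Type u} [Group G] [Finite G]

/-- The data on `C(z) = Q · A₅`. -/
structure CzHyp (z t : G) (Q : Subgroup G) (f : ↥(Subgroup.centralizer ({z} : Set G)) →* alternatingGroup (Fin 5)) :
    Prop where
  hQle : Q ≤ Subgroup.centralizer ({z} : Set G)
  hker : ∀ h, f h = 1 ↔ (h : G) ∈ Q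
  hsurj : Function.Surjective f
  hlift : ∀ a : alternatingGroup (Fin 5), a * a = 1 → a ≠ 1 → ∃ h, f h = a ∧ h * h = 1
  hQ : Nat.card Q = 32
  hzQ : z ∈ Q
  hsq : ∀ q ∈ Q, q * q = 1 ∨ q * q = z
  hcomm : ∀ p ∈ Q, ∀ q ∈ Q, p * q = q * p ∨ p * q = q * p * z
  hcent : ∀ p ∈ Q, (∀ q ∈ Q, p * q = q * p) → p = 1 ∨ p = z
  hQz : ∀ x ∈ Q, orderOf x = 2 → IsConj x z
  hCz : ∀ x ∈ Subgroup.centralizer ({z} : Set G), orderOf x = 2 → x ∉ Q → IsConj x t
  hfaith : ∀ h : ↥(Subgroup.centralizer ({z} : Set G)), (∀ q ∈ Q, Commute (h : G) q) → (h : G) ∈ Q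

namespace CzHyp

variable {z t : G} {Q : Subgroup G}
  {f : ↥(Subgroup.centralizer ({z} : Set G)) →* alternatingGroup (Fin 5)}
  {V B : Subgroup G} (hc : CzHyp z t Q f) (ht : CtHyp z t V B)

include hc in
omit [Finite G] in
theorem z_comm {q : G} (hq : q ∈ Q) : Commute q z :=
  Subgroup.mem_centralizer_singleton_iff.1 (hc.hQle hq)

include hc ht in
theorem cent_Q {v : G} (hvC : v ∈ Subgroup.centralizer ({z} : Set G)) (hv2 : orderOf v = 2)
    (hvQ : v ∉ Q) :
    ∃ D : Subgroup G, Nat.card D = 4 ∧ z ∈ D ∧ (∀ d ∈ D, d ∈ Q ∧ Commute d v ∧ d * d = 1) ∧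
      (∀ q ∈ Q, Commute q v → q ∈ D) := by
  classical
  have hvz : Commute z v := (Subgroup.mem_centralizer_singleton_iff.1 hvC).symm
  obtain ⟨h16, hEsq, E₀, hE₀4, hzE₀, hE₀, -⟩ :=
    ht.cent_pair (IsConj.refl z) (hc.hCz v hvC hv2 hvQ).symm hvz
  set E := Subgroup.centralizer ({v} : Set G) ⊓ Subgroup.centralizer ({z} : Set G) with hE
  have hle : Q ⊓ E ≤ E₀ := fun q hq => by
    by_cases h1 : q = 1
    · rw [h1]; exact E₀.one_mem
    · exact hE₀ q hq.2 (hc.hQz q hq.1 (CfsgLib.Invol.orderOf_eq_two h1 (hEsq q hq.2))).symm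
  have hle4 : Nat.card (Q ⊓ E : Subgroup G) ≤ 4 := hE₀4 ▸ Subgroup.card_le_of_le hle
  -- the image of `E`
  let g : E →* alternatingGroup (Fin 5) :=
    f.comp (Subgroup.inclusion (inf_le_right : E ≤ Subgroup.centralizer ({z} : Set G)))
  set a := f ⟨v, hvC⟩ with ha
  have ha1 : a ≠ 1 := fun hh => hvQ ((hc.hker _).1 hh)
  have ha2 : a * a = 1 := by
    rw [ha, ← map_mul, show (⟨v, hvC⟩ : ↥(Subgroup.centralizer ({z} : Set G))) * ⟨v, hvC⟩ = 1 from
      Subtype.ext (CfsgLib.Invol.mul_self_eq_one hv2), map_one]
  have hrange : Nat.card g.range ≤ 4 := by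
    rw [← (alt_cent a ha2 ha1).1, ← Nat.card_eq_finsetCard]
    refine Nat.card_le_card_of_injective (fun c => ⟨c.1, Finset.mem_filter.2 ⟨Finset.mem_univ _, ?_⟩⟩)
      fun c d hcd => Subtype.ext (congrArg Subtype.val hcd :)
    obtain ⟨c', hc'⟩ := c.2
    rw [← hc']
    show f ⟨v, hvC⟩ * f _ = f _ * f ⟨v, hvC⟩
    rw [← map_mul, ← map_mul]
    exact congrArg f (Subtype.ext (Subgroup.mem_centralizer_singleton_iff.1 c'.2.1).symm)
  have hkerE : Nat.card g.ker = Nat.card (Q ⊓ E : Subgroup G) := by
    refine Nat.card_congr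
      { toFun := fun c => ⟨(c.1 : G), (hc.hker _).1 c.2, c.1.2⟩
        invFun := fun c => ⟨⟨c.1, c.2.2⟩, (hc.hker _).2 c.2.1⟩
        left_inv := fun c => rfl
        right_inv := fun c => rfl }
  have hmul : Nat.card g.ker * Nat.card g.range = 16 := by
    rw [← h16, ← Nat.card_congr (QuotientGroup.quotientKerEquivRange g).toEquiv,
      ← Subgroup.index_eq_card, Subgroup.card_mul_index]
  have hge : 4 ≤ Nat.card (Q ⊓ E : Subgroup G) := by
    rw [← hkerE]
    have := Nat.mul_le_mul_left (Nat.card g.ker) hrange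
    omega
  refine ⟨Q ⊓ E, le_antisymm hle4 hge, ⟨hc.hzQ, Subgroup.mem_centralizer_singleton_iff.2 hvz.eq,
    Subgroup.mem_centralizer_singleton_iff.2 rfl⟩, fun d hd => ⟨hd.1,
      Subgroup.mem_centralizer_singleton_iff.1 hd.2.1, hEsq d hd.2⟩, fun q hq hqv => ⟨hq,
      Subgroup.mem_centralizer_singleton_iff.2 hqv.eq, hc.hQle hq⟩⟩

include hc in
omit [Finite G] in
theorem z_ne (ht : CtHyp z t V B) : z ≠ 1 := fun h => by
  have := ht.hz; rw [h, orderOf_one] at this; omega

include hc ht in
theorem involution_count :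
    Nat.card {q : G // q ∈ Q ∧ q * q = 1} = 12 ∧
      ∀ u ∈ Q, u * u = 1 → u ≠ 1 → u ≠ z → ∀ q ∈ Q, q * q = 1 → Commute u q →
        q = 1 ∨ q = z ∨ q = u ∨ q = u * z := by
  classical
  haveI := Fintype.ofFinite G
  have hz1 := hc.z_ne ht
  have hzz : z * z = 1 := CfsgLib.Invol.mul_self_eq_one ht.hz
  set I := Finset.univ.filter fun q : G => q ∈ Q ∧ q * q = 1 with hI
  have hIcard : Nat.card {q : G // q ∈ Q ∧ q * q = 1} = I.card := by
    rw [Nat.card_eq_fintype_card, Fintype.card_subtype]
  have hQf : (Finset.univ.filter fun q : G => q ∈ Q).card = 32 := by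
    rw [← hc.hQ, Nat.card_eq_fintype_card, Fintype.card_subtype]
  have hsplit : ∀ u ∈ Q, u * u = 1 → u ≠ 1 → u ≠ z →
      (I.filter fun q => q * u = u * q).card + 8 = I.card ∧ 4 ∣ (I.filter fun q => q * u = u * q).card := by
    intro u hu huu hu1 huz
    have hzu : Commute u z := hc.z_comm hu
    set P := Finset.univ.filter (fun q : G => q ∈ Q ∧ ¬ q * u = u * q) with hP
    have hP16 : P.card = 16 := by
      obtain ⟨w, hw, hwu⟩ : ∃ w ∈ Q, ¬ w * u = u * w := by
        by_contra! hall
        rcases hc.hcent u hu (fun q hq => (hall q hq).symm) with e | e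
        · exact hu1 e
        · exact huz e
      set C := Finset.univ.filter (fun q : G => q ∈ Q ∧ q * u = u * q) with hC
      have hwn : ∀ q ∈ Q, ¬ q * u = u * q → (w⁻¹ * q) * u = u * (w⁻¹ * q) := by
        intro q hq hqu
        have h1 : w * u = u * w * z := (hc.hcomm w hw u hu).resolve_left hwu
        have h2 : q * u = u * q * z := (hc.hcomm q hq u hu).resolve_left hqu
        have hzw : Commute w z := hc.z_comm hw
        have hzq : Commute q z := hc.z_comm hq
        apply mul_left_cancel (a := w)
        calc w * (w⁻¹ * q * u) = q * u := by group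
          _ = u * q * z := h2
          _ = u * (q * z) := by group
          _ = u * (z * q) := by rw [hzq.eq]
          _ = u * (z * w) * (w⁻¹ * q) := by group
          _ = u * (w * z) * (w⁻¹ * q) := by rw [hzw.eq]
          _ = (u * w * z) * (w⁻¹ * q) := by group
          _ = w * u * (w⁻¹ * q) := by rw [h1]
          _ = w * (u * (w⁻¹ * q)) := by group
      have hcard : C.card = P.card := by
        refine Finset.card_bij' (fun q _ => w * q) (fun q _ => w⁻¹ * q) ?_ ?_ ?_ ?_
        · intro q hq
          obtain ⟨hqQ, hqu⟩ := (Finset.mem_filter.1 hq).2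
          refine Finset.mem_filter.2 ⟨Finset.mem_univ _, Q.mul_mem hw hqQ, fun hh => hwu ?_⟩
          apply mul_right_cancel (b := q)
          calc w * u * q = w * (u * q) := by group
            _ = w * (q * u) := by rw [hqu]
            _ = u * (w * q) := by rw [← mul_assoc, hh]
            _ = u * w * q := by group
        · intro q hq
          obtain ⟨hqQ, hqu⟩ := (Finset.mem_filter.1 hq).2
          exact Finset.mem_filter.2
            ⟨Finset.mem_univ _, Q.mul_mem (Q.inv_mem hw) hqQ, hwn q hqQ hqu⟩
        · intro q _; simp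
        · intro q _; simp
      have := Finset.card_filter_add_card_filter_not
        (s := Finset.univ.filter fun q : G => q ∈ Q) (fun q => q * u = u * q)
      rw [Finset.filter_filter, Finset.filter_filter, hQf] at this
      change C.card + P.card = 32 at this
      omega
    have hPsq : ∀ q ∈ P, (q * u * (q * u) = 1 ↔ ¬ q * q = 1) := by
      intro q hq
      obtain ⟨hqQ, hqu⟩ := (Finset.mem_filter.1 hq).2
      have h2 : q * u = u * q * z := (hc.hcomm q hqQ u hu).resolve_left hqu
      have h3 : q * u * (q * u) = q * q * z := by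
        calc q * u * (q * u) = q * u * (u * q * z) := by rw [← h2]
          _ = q * (u * u) * q * z := by group
          _ = q * q * z := by rw [huu]; group
      rw [h3]
      rcases hc.hsq q hqQ with e | e
      · rw [e, one_mul]; simp [hz1]
      · rw [e, hzz]; simp [hz1]
    have hmemP : ∀ q ∈ P, q * u ∈ P := by
      intro q hq
      obtain ⟨hqQ, hqu⟩ := (Finset.mem_filter.1 hq).2
      refine Finset.mem_filter.2 ⟨Finset.mem_univ _, Q.mul_mem hqQ hu, fun hh => hqu ?_⟩
      rw [← mul_assoc] at hh
      exact mul_right_cancel hh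
    have hP8 : (P.filter fun q => q * q = 1).card = 8 := by
      have hb : (P.filter fun q => q * q = 1).card = (P.filter fun q => ¬ q * q = 1).card := by
        refine Finset.card_bij' (fun q _ => q * u) (fun q _ => q * u) ?_ ?_ ?_ ?_
        · intro q hq
          obtain ⟨hqP, hq2⟩ := Finset.mem_filter.1 hq
          exact Finset.mem_filter.2 ⟨hmemP q hqP, fun hh => (hPsq q hqP).1 hh hq2⟩
        · intro q hq
          obtain ⟨hqP, hq2⟩ := Finset.mem_filter.1 hq
          exact Finset.mem_filter.2 ⟨hmemP q hqP, (hPsq q hqP).2 hq2⟩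
        · intro q _; simp [mul_assoc, huu]
        · intro q _; simp [mul_assoc, huu]
      have := Finset.card_filter_add_card_filter_not (s := P) (fun q => q * q = 1)
      omega
    constructor
    · have := Finset.card_filter_add_card_filter_not (s := I) (fun q => q * u = u * q)
      have he : I.filter (fun q => ¬ q * u = u * q) = P.filter fun q => q * q = 1 := by
        ext q; simp only [hI, hP, Finset.mem_filter, Finset.mem_univ, true_and]; tauto
      rw [he, hP8] at this
      exact this
    · set S := I.filter fun q => q * u = u * q with hS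
      let W : Subgroup G := Subgroup.closure {u, z}
      have hW4 : Nat.card W = 4 := by
        have hset : (W : Set G) = {1, u, z, u * z} := by
          apply Set.Subset.antisymm
          · intro x hx
            induction hx using Subgroup.closure_induction with
            | mem p hp =>
              rcases hp with rfl | rfl
              · simp
              · simp
            | one => simp
            | mul p q _ _ e1 e2 =>
              have hzu' : z * u = u * z := hzu.eq.symm
              have huzuz : u * z * u = z := by rw [hzu.eq, mul_assoc, huu, mul_one]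
              have huuz : u * (u * z) = z := by rw [← mul_assoc, huu, one_mul]
              have hzuz : z * (u * z) = u := by rw [← mul_assoc, hzu', mul_assoc, hzz, mul_one]
              simp only [Set.mem_insert_iff, Set.mem_singleton_iff] at e1 e2 ⊢
              rcases e1 with rfl | rfl | rfl | rfl <;> rcases e2 with rfl | rfl | rfl | rfl <;>
                simp [hzu', huu, hzz, huzuz, huuz, hzuz, mul_assoc] <;>
                simp [← mul_assoc, huu, hzz, hzu', huzuz]
            | inv p _ e1 =>
              simp only [Set.mem_insert_iff, Set.mem_singleton_iff] at e1 ⊢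
              rcases e1 with rfl | rfl | rfl | rfl
              · simp
              · simp [inv_eq_of_mul_eq_one_left huu]
              · simp [inv_eq_of_mul_eq_one_left hzz]
              · rw [mul_inv_rev, inv_eq_of_mul_eq_one_left huu, inv_eq_of_mul_eq_one_left hzz, ← hzu.eq]
                simp
          · intro x hx
            rcases hx with rfl | rfl | rfl | rfl
            · exact W.one_mem
            · exact Subgroup.subset_closure (Or.inl rfl)
            · exact Subgroup.subset_closure (Or.inr rfl)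
            · exact W.mul_mem (Subgroup.subset_closure (Or.inl rfl)) (Subgroup.subset_closure (Or.inr rfl))
        show Nat.card (W : Set G) = 4
        rw [hset, Nat.card_coe_set_eq, Set.ncard_insert_of_notMem, Set.ncard_insert_of_notMem,
          Set.ncard_pair]
        · exact fun hh => hu1 (mul_eq_right.1 hh.symm)
        · simp [huz, hz1]
        · simp only [Set.mem_insert_iff, Set.mem_singleton_iff, not_or]
          refine ⟨hu1.symm, hz1.symm, fun hh => huz ?_⟩
          rw [eq_inv_of_mul_eq_one_left hh.symm, inv_eq_of_mul_eq_one_left hzz]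
      have hSW : ∀ q ∈ S, ∀ w ∈ W, q * w ∈ S := by
        intro q hq w hw
        obtain ⟨hq1, hqu⟩ := Finset.mem_filter.1 hq
        obtain ⟨hqQ, hqq⟩ := (Finset.mem_filter.1 hq1).2
        have hzq : Commute q z := hc.z_comm hqQ
        induction hw using Subgroup.closure_induction generalizing q with
        | mem p hp =>
          rcases hp with rfl | rfl
          · refine Finset.mem_filter.2 ⟨Finset.mem_filter.2 ⟨Finset.mem_univ _, Q.mul_mem hqQ hu, ?_⟩, ?_⟩
            · rw [show q * p * (q * p) = q * (p * q) * p by group, ← hqu,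
                show q * (q * p) * p = (q * q) * (p * p) by group, hqq, huu, mul_one]
            · rw [← mul_assoc, hqu]
          · refine Finset.mem_filter.2 ⟨Finset.mem_filter.2 ⟨Finset.mem_univ _, Q.mul_mem hqQ hc.hzQ, ?_⟩, ?_⟩
            · rw [show q * p * (q * p) = q * (p * q) * p by group, ← hzq.eq,
                show q * (q * p) * p = (q * q) * (p * p) by group, hqq, hzz, mul_one]
            · rw [mul_assoc, ← hzu.eq, ← mul_assoc, hqu, mul_assoc]
        | one => rwa [mul_one]
        | mul p r _ _ e1 e2 =>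
          rw [← mul_assoc]
          have h1 := e1 q hq hq1 hqu hqQ hqq hzq
          obtain ⟨a1, a2⟩ := Finset.mem_filter.1 h1
          obtain ⟨a3, a4⟩ := (Finset.mem_filter.1 a1).2
          exact e2 _ h1 a1 a2 a3 a4 (hc.z_comm a3)
        | inv p hp e1 =>
          have hp2 : p⁻¹ = p := by
            apply inv_eq_of_mul_eq_one_left
            have hps : ∀ p ∈ W, p * p = 1 ∧ p * u = u * p ∧ p * z = z * p := by
              intro p hp
              induction hp using Subgroup.closure_induction with
              | mem p hp =>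
                rcases hp with rfl | rfl
                · exact ⟨huu, rfl, hzu.eq⟩
                · exact ⟨hzz, hzu.eq.symm, rfl⟩
              | one => simp
              | mul p r _ hr e1 e2 =>
                have hpr : Commute r p := by
                  clear e2
                  induction hr using Subgroup.closure_induction with
                  | mem r hr =>
                    rcases hr with rfl | rfl
                    · exact e1.2.1.symm
                    · exact e1.2.2.symm
                  | one => exact Commute.one_left p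
                  | mul r s _ _ c1 c2 => exact c1.mul_left c2
                  | inv r _ c1 => exact c1.inv_left
                refine ⟨?_, (Commute.mul_left (e1.2.1 : Commute p u) (e2.2.1 : Commute r u)).eq,
                  (Commute.mul_left (e1.2.2 : Commute p z) (e2.2.2 : Commute r z)).eq⟩
                rw [show p * r * (p * r) = p * (r * p) * r by group, hpr.eq,
                  show p * (p * r) * r = (p * p) * (r * r) by group, e1.1, e2.1, mul_one]
              | inv p _ e1 =>
                refine ⟨?_, (Commute.inv_left (e1.2.1 : Commute p u)).eq, (Commute.inv_left (e1.2.2 : Commute p z)).eq⟩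
                rw [← mul_inv_rev, e1.1, inv_one]
            exact (hps p hp).1
          rw [hp2]; exact e1 q hq hq1 hqu hqQ hqq hzq
      rw [← hW4]
      have hpre : ∀ g : G, g ∈ S ↔ (QuotientGroup.mk g : G ⧸ W) ∈ S.image (QuotientGroup.mk : G → G ⧸ W) := by
        intro g
        refine ⟨fun hg => Finset.mem_image_of_mem _ hg, fun hg => ?_⟩
        obtain ⟨q, hq, hqg⟩ := Finset.mem_image.1 hg
        have := hSW q hq _ (QuotientGroup.eq.1 hqg)
        rwa [mul_inv_cancel_left] at this
      refine ⟨(S.image (QuotientGroup.mk : G → G ⧸ W)).card, ?_⟩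
      rw [← Nat.card_eq_finsetCard, ← Nat.card_eq_finsetCard, ← Nat.card_prod]
      exact Nat.card_congr ((Equiv.subtypeEquivRight fun g => hpre g).trans
        (QuotientGroup.preimageMkEquivSubgroupProdSet W
          (↑(S.image (QuotientGroup.mk : G → G ⧸ W)) : Set (G ⧸ W))))
  -- a noncentral involution and an element of order five
  obtain ⟨a, haa, ha1⟩ : ∃ a : alternatingGroup (Fin 5), a * a = 1 ∧ a ≠ 1 := by
    obtain ⟨a, ha⟩ := Finset.card_pos.1 (by rw [alt_card_invol]; norm_num :
      0 < (Finset.univ.filter fun a : alternatingGroup (Fin 5) => a * a = 1 ∧ a ≠ 1).card)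
    exact ⟨a, (Finset.mem_filter.1 ha).2⟩
  obtain ⟨⟨v, hvC⟩, hva, hvv⟩ := hc.hlift a haa ha1
  have hvQ : v ∉ Q := fun hh => ha1 (hva.symm.trans ((hc.hker _).2 hh))
  have hv2 : orderOf v = 2 := CfsgLib.Invol.orderOf_eq_two (fun hh => hvQ (hh ▸ Q.one_mem))
    (congrArg Subtype.val hvv)
  obtain ⟨D, hD4, hzD, hD, -⟩ := hc.cent_Q ht hvC hv2 hvQ
  obtain ⟨u₀, hu₀D, hu₀1, hu₀z⟩ : ∃ u ∈ D, u ≠ 1 ∧ u ≠ z := by
    by_contra! hall
    have : (D : Set G) ⊆ {1, z} := fun d hd => by
      by_cases h1 : d = 1
      · simp [h1]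
      · simp [hall d hd h1]
    have h2 := Set.ncard_le_ncard this
    rw [Set.ncard_pair hz1.symm, ← Nat.card_coe_set_eq] at h2
    have : Nat.card (D : Set G) = 4 := hD4
    omega
  have hmod : I.card % 5 = 2 := by
    haveI : Fact (Nat.Prime 5) := ⟨by norm_num⟩
    obtain ⟨⟨y, hy⟩, hy5⟩ : ∃ y : ↥(Subgroup.centralizer ({z} : Set G)), orderOf y = 5 := by
      refine exists_prime_orderOf_dvd_card' 5 ?_
      have hs := Nat.card_congr (QuotientGroup.quotientKerEquivOfSurjective f hc.hsurj).toEquiv
      rw [← Subgroup.index_eq_card, Nat.card_eq_fintype_card, alt_card] at hs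
      rw [← Subgroup.card_mul_index f.ker, hs]
      exact Dvd.dvd.mul_left (by norm_num) _
    rw [Subgroup.orderOf_mk] at hy5
    let Y := Subgroup.zpowers y
    have hY5 : IsPGroup 5 Y := IsPGroup.of_card (n := 1) (by rw [Nat.card_zpowers, hy5, pow_one])
    have hYC : Y ≤ Subgroup.centralizer ({z} : Set G) := Subgroup.zpowers_le.2 hy
    have hQn : ∀ g ∈ Subgroup.centralizer ({z} : Set G), ∀ q ∈ Q, g * q * g⁻¹ ∈ Q := fun g hg q hq => by
      have := (hc.hker (⟨g, hg⟩ * ⟨q, hc.hQle hq⟩ * ⟨g, hg⟩⁻¹)).1 (by
        rw [map_mul, map_mul, (hc.hker ⟨q, hc.hQle hq⟩).2 hq, mul_one, map_inv, mul_inv_cancel])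
      exact this
    letI actI : MulAction Y {q : G // q ∈ Q ∧ q * q = 1} :=
      { smul := fun g q => ⟨(g : G) * q.1 * (g : G)⁻¹, hQn _ (hYC g.2) _ q.2.1, by
          rw [show (g : G) * q.1 * (g : G)⁻¹ * ((g : G) * q.1 * (g : G)⁻¹) =
            (g : G) * (q.1 * q.1) * (g : G)⁻¹ by group, q.2.2]
          group⟩
        one_smul := fun q => Subtype.ext (by
          show ((1 : Y) : G) * q.1 * ((1 : Y) : G)⁻¹ = q.1
          simp)
        mul_smul := fun g h q => Subtype.ext (by
          show ((g * h : Y) : G) * q.1 * ((g * h : Y) : G)⁻¹ = (g : G) * ((h : G) * q.1 * (h : G)⁻¹) * (g : G)⁻¹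
          rw [Subgroup.coe_mul]; group) }
    haveI := Fintype.ofFinite {q : G // q ∈ Q ∧ q * q = 1}
    have hm := hY5.card_modEq_card_fixedPoints {q : G // q ∈ Q ∧ q * q = 1}
    -- the fixed points
    set Cy := Q ⊓ Subgroup.centralizer ({y} : Set G) with hCy
    have hCy2 : ∀ q ∈ Cy, q = 1 ∨ q = z := by
      have hzC : z ∈ Cy := ⟨hc.hzQ, Subgroup.mem_centralizer_singleton_iff.2
        (Subgroup.mem_centralizer_singleton_iff.1 hy).symm⟩
      letI actQ : MulAction Y Q :=
        { smul := fun g q => ⟨(g : G) * (q : G) * (g : G)⁻¹, hQn _ (hYC g.2) _ q.2⟩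
          one_smul := fun q => Subtype.ext (by
            show ((1 : Y) : G) * q.1 * ((1 : Y) : G)⁻¹ = q.1
            simp)
          mul_smul := fun g h q => Subtype.ext (by
            show ((g * h : Y) : G) * q.1 * ((g * h : Y) : G)⁻¹ = (g : G) * ((h : G) * q.1 * (h : G)⁻¹) * (g : G)⁻¹
            rw [Subgroup.coe_mul]; group) }
      haveI := Fintype.ofFinite Q
      have hm2 := hY5.card_modEq_card_fixedPoints Q
      have hfix : Nat.card (MulAction.fixedPoints Y Q) = Nat.card Cy := by
        refine Nat.card_congr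
          { toFun := fun q => ⟨(q.1 : G), q.1.2, Subgroup.mem_centralizer_singleton_iff.2 ?_⟩
            invFun := fun q => ⟨⟨q.1, q.2.1⟩, fun g => Subtype.ext ?_⟩
            left_inv := fun q => rfl
            right_inv := fun q => rfl }
        · have := congrArg Subtype.val (q.2 ⟨y, Subgroup.mem_zpowers y⟩)
          change y * (q.1 : G) * y⁻¹ = q.1 at this
          exact (mul_inv_eq_iff_eq_mul.1 this).symm
        · show (g : G) * q.1 * (g : G)⁻¹ = q.1
          obtain ⟨i, hi⟩ := Subgroup.mem_zpowers_iff.1 g.2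
          rw [← hi, mul_inv_eq_iff_eq_mul]
          have hcom : Commute y q.1 := (Subgroup.mem_centralizer_singleton_iff.1 q.2.2).symm
          exact (hcom.zpow_left i).eq
      rw [hfix, hc.hQ] at hm2
      have hd : Nat.card Cy ∣ 32 := hc.hQ ▸ Subgroup.card_dvd_of_le inf_le_left
      obtain ⟨k, hk, hk'⟩ := (Nat.dvd_prime_pow Nat.prime_two).1 (show _ ∣ 2 ^ 5 from hd)
      have hm3 : 32 % 5 = Nat.card Cy % 5 := hm2
      rw [hk'] at hm3
      interval_cases k <;> norm_num at hm3
      · -- order two
        intro q hq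
        by_contra! hne
        have hsub : ({1, z, q} : Set G) ⊆ (Cy : Set G) := by
          rintro a (rfl | rfl | rfl)
          exacts [Cy.one_mem, hzC, hq]
        have h3 : ({1, z, q} : Set G).ncard = 3 := by
          rw [Set.ncard_insert_of_notMem (by simp [hz1.symm, Ne.symm hne.1]), Set.ncard_pair (Ne.symm hne.2)]
        have h2 := Set.ncard_le_ncard hsub
        rw [h3, ← Nat.card_coe_set_eq] at h2
        have : Nat.card (Cy : Set G) = 2 ^ 1 := hk'
        omega
      · -- everything fixed
        exfalso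
        have hall : Cy = Q := Subgroup.eq_of_le_of_card_ge inf_le_left (by rw [hk', hc.hQ]; norm_num)
        have hyQ : y ∈ Q := hc.hfaith ⟨y, hy⟩ fun q hq =>
          (Subgroup.mem_centralizer_singleton_iff.1 (hall.ge hq).2).symm
        have h32 : orderOf y ∣ 32 := hc.hQ ▸ Subgroup.orderOf_mk y hyQ ▸ orderOf_dvd_natCard _
        rw [hy5] at h32
        omega
    have hfix2 : Nat.card (MulAction.fixedPoints Y {q : G // q ∈ Q ∧ q * q = 1}) = 2 := by
      have hzfix : (⟨z, hc.hzQ, hzz⟩ : {q : G // q ∈ Q ∧ q * q = 1}) ∈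
          MulAction.fixedPoints Y {q : G // q ∈ Q ∧ q * q = 1} := fun g => Subtype.ext (by
        show (g : G) * z * (g : G)⁻¹ = z
        rw [mul_inv_eq_iff_eq_mul]
        exact Subgroup.mem_centralizer_singleton_iff.1 (hYC g.2))
      have h1fix : (⟨1, Q.one_mem, one_mul 1⟩ : {q : G // q ∈ Q ∧ q * q = 1}) ∈
          MulAction.fixedPoints Y {q : G // q ∈ Q ∧ q * q = 1} := fun g => Subtype.ext (by
        show (g : G) * 1 * (g : G)⁻¹ = 1
        group)
      rw [Nat.card_eq_two_iff]
      refine ⟨⟨_, h1fix⟩, ⟨_, hzfix⟩, fun hh => hz1 (congrArg (fun q => (q.1.1 : G)) hh).symm, ?_⟩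
      ext q
      simp only [Set.mem_insert_iff, Set.mem_singleton_iff, Set.mem_univ, iff_true]
      have hq := congrArg Subtype.val (q.2 ⟨y, Subgroup.mem_zpowers y⟩)
      change y * (q.1.1 : G) * y⁻¹ = q.1.1 at hq
      rcases hCy2 q.1.1 ⟨q.1.2.1, Subgroup.mem_centralizer_singleton_iff.2
        (mul_inv_eq_iff_eq_mul.1 hq).symm⟩ with e | e
      · exact Or.inl (Subtype.ext (Subtype.ext e))
      · exact Or.inr (Subtype.ext (Subtype.ext e))
    rw [hfix2] at hm
    rw [← hIcard]
    exact hm
  have h12 : I.card = 12 := by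
    obtain ⟨hu₀Q, -, hu₀u⟩ := hD u₀ hu₀D
    obtain ⟨hsum, h4⟩ := hsplit u₀ hu₀Q hu₀u hu₀1 hu₀z
    have hne32 : I.card ≠ 32 := by
      intro h32
      have heq := Finset.eq_of_subset_of_card_le (s := I) (t := Finset.univ.filter fun q : G => q ∈ Q)
        (fun q hq => by simp only [hI, Finset.mem_filter, Finset.mem_univ, true_and] at hq ⊢; exact hq.1)
        (by rw [hQf, h32])
      have hall : ∀ q ∈ Q, q * q = 1 := fun q hq => by
        have hm : q ∈ I := by rw [heq]; simp [hq]
        exact (Finset.mem_filter.1 hm).2.2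
      rcases hc.hcent u₀ hu₀Q (fun q hq => by
        have h1 := hall _ (Q.mul_mem hu₀Q hq)
        have h2 := inv_eq_of_mul_eq_one_left h1
        rw [mul_inv_rev, inv_eq_of_mul_eq_one_left hu₀u, inv_eq_of_mul_eq_one_left (hall q hq)] at h2
        exact h2.symm) with e | e
      · exact hu₀1 e
      · exact hu₀z e
    have hle : I.card ≤ 32 := hQf ▸ Finset.card_le_card (fun q hq => by
      simp only [hI, Finset.mem_filter, Finset.mem_univ, true_and] at hq ⊢; exact hq.1)
    have hpos : 0 < (I.filter fun q => q * u₀ = u₀ * q).card :=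
      Finset.card_pos.2 ⟨1, by simp [hI, Q.one_mem]⟩
    omega
  refine ⟨hIcard.trans h12, ?_⟩
  intro u hu huu hu1 huz q hq hqq huq
  obtain ⟨hsum, -⟩ := hsplit u hu huu hu1 huz
  have hS4 : (I.filter fun q => q * u = u * q).card = 4 := by omega
  have hzu : Commute u z := hc.z_comm hu
  have hsub : ({1, z, u, u * z} : Finset G) ⊆ I.filter fun q => q * u = u * q := by
    intro x hx
    simp only [Finset.mem_insert, Finset.mem_singleton] at hx
    simp only [hI, Finset.mem_filter, Finset.mem_univ, true_and]
    rcases hx with rfl | rfl | rfl | rfl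
    · simp [Q.one_mem]
    · exact ⟨⟨hc.hzQ, hzz⟩, hzu.eq.symm⟩
    · exact ⟨⟨hu, huu⟩, rfl⟩
    · refine ⟨⟨Q.mul_mem hu hc.hzQ, ?_⟩, ?_⟩
      · rw [show u * z * (u * z) = u * (z * u) * z by group, ← hzu.eq,
          show u * (u * z) * z = (u * u) * (z * z) by group, huu, hzz, mul_one]
      · rw [mul_assoc, ← hzu.eq]
  have hcard4 : ({1, z, u, u * z} : Finset G).card = 4 := by
    rw [Finset.card_insert_of_notMem, Finset.card_insert_of_notMem, Finset.card_pair]
    · exact fun hh => hz1 (mul_eq_left.1 hh.symm)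
    · simp only [Finset.mem_insert, Finset.mem_singleton, not_or]
      exact ⟨huz.symm, fun hh => hu1 (mul_eq_right.1 hh.symm)⟩
    · simp only [Finset.mem_insert, Finset.mem_singleton, not_or]
      refine ⟨hz1.symm, hu1.symm, fun hh => huz ?_⟩
      rw [eq_inv_of_mul_eq_one_left hh.symm, inv_eq_of_mul_eq_one_left hzz]
  have heq := Finset.eq_of_subset_of_card_le hsub (by rw [hS4, hcard4])
  have hmem : q ∈ I.filter fun q => q * u = u * q := by simp [hI, hq, hqq, huq.eq]
  rw [← heq] at hmem
  simpa using hmem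

end CzHyp

end CfsgLib.InvChar.J2Order
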