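import Cfsg.Agent.Lib.InvChar.J2Order.OrderFormula
import Cfsg.Agent.Lib.InvChar.J2Order.AltFive
import Cfsg.Prelude.Def_TwoFusion

/-!
# The centralizer of the second class
-/

set_option autoImplicit false

namespace CfsgLib.InvChar.J2Order

universe u

variable {G : Type u} [Group G] [Finite G]

/-- The hypotheses on the centralizer `V × B` of `t`. -/
structure CtHyp (z t : G) (V B : Subgroup G) : Prop where
  hz : orderOf z = 2
  ht : orderOf t = 2
  hzt : ¬ IsConj z t
  hVB : Cfsg.IsInternalDirectProduct V B (Subgroup.centralizer ({t} : Set G))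
  hV : Nat.card ↥V = 4
  hV2 : ∀ v ∈ V, v ^ 2 = 1
  htV : t ∈ V
  hB : Nonempty (↥B ≃* alternatingGroup (Fin 5))
  hBz : ∀ x ∈ B, orderOf x = 2 → IsConj x z
  hCt : ∀ x ∈ Subgroup.centralizer ({t} : Set G), orderOf x = 2 → x ∉ B → IsConj x t

theorem conj_order {a v : G} (h : IsConj a v) : orderOf a = orderOf v := by
  obtain ⟨c, rfl⟩ := isConj_iff.1 h
  exact (CfsgLib.Invol.orderOf_conj c a).symm

namespace CtHyp

variable {z t : G} {V B : Subgroup G} (h : CtHyp z t V B)
include h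

omit [Finite G] in
theorem mem_cent_iff {x : G} : x ∈ Subgroup.centralizer ({t} : Set G) ↔
    ∃ v ∈ V, ∃ b ∈ B, v * b = x := by
  obtain ⟨hVC, hBC, hcomm, -, hsup⟩ := h.hVB
  constructor
  · intro hx
    have hN : B ≤ Subgroup.normalizer (V : Set G) := fun b hb =>
      Subgroup.mem_normalizer_iff.2 fun g => by
        constructor
        · intro hg; rw [← hcomm g hg b hb, mul_inv_cancel_right]; exact hg
        · intro hg
          have h1 := hcomm _ hg b hb
          have h2 : g = b * g * b⁻¹ := by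
            calc g = b⁻¹ * (b * g * b⁻¹ * b) := by group
              _ = b⁻¹ * (b * (b * g * b⁻¹)) := by rw [h1]
              _ = b * g * b⁻¹ := by group
          rw [h2]; exact hg
    rw [← hsup, ← SetLike.mem_coe, Subgroup.coe_mul_of_right_le_normalizer_left V B hN] at hx
    obtain ⟨v, hv, b, hb, hvb⟩ := hx
    exact ⟨v, hv, b, hb, hvb⟩
  · rintro ⟨v, hv, b, hb, rfl⟩
    exact Subgroup.mul_mem _ (hVC hv) (hBC hb)

omit [Finite G] in
theorem decomp_unique {v v' b b' : G} (hv : v ∈ V) (hv' : v' ∈ V) (hb : b ∈ B) (hb' : b' ∈ B)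
    (he : v * b = v' * b') : v = v' ∧ b = b' := by
  have h1 : v'⁻¹ * v = b' * b⁻¹ := by
    calc v'⁻¹ * v = v'⁻¹ * (v * b) * b⁻¹ := by group
      _ = b' * b⁻¹ := by rw [he]; group
  have hm : v'⁻¹ * v ∈ V ⊓ B :=
    ⟨V.mul_mem (V.inv_mem hv') hv, by rw [h1]; exact B.mul_mem hb' (B.inv_mem hb)⟩
  rw [h.hVB.2.2.2.1, Subgroup.mem_bot, inv_mul_eq_one] at hm
  subst hm
  exact ⟨rfl, mul_left_cancel he⟩

theorem zclass_iff {x : G} (hx : x ∈ Subgroup.centralizer ({t} : Set G)) :
    IsConj z x ↔ x ∈ B ∧ orderOf x = 2 := by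
  refine ⟨fun hc => ?_, fun ⟨h1, h2⟩ => (h.hBz x h1 h2).symm⟩
  have h2 : orderOf x = 2 := (conj_order hc).symm.trans h.hz
  exact ⟨by_contra fun hB => h.hzt (hc.trans (h.hCt x hx h2 hB)), h2⟩

theorem count_t : OrderFormula.count z t t = 195 := by
  classical
  obtain ⟨e⟩ := h.hB
  obtain ⟨hVC, hBC, hcomm, hbot, -⟩ := h.hVB
  have htt : t * t = 1 := CfsgLib.Invol.mul_self_eq_one h.ht
  have ht1 : t ≠ 1 := fun hh => by have := h.ht; rw [hh, orderOf_one] at this; omega
  have htB : ∀ b ∈ B, Commute t b := fun b hb => hcomm t h.htV b hb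
  have h2of : ∀ a : G, orderOf a = 2 ↔ a * a = 1 ∧ a ≠ 1 := fun a =>
    ⟨fun ha => ⟨CfsgLib.Invol.mul_self_eq_one ha, fun hh => by rw [hh, orderOf_one] at ha; omega⟩,
      fun ha => CfsgLib.Invol.orderOf_eq_two ha.2 ha.1⟩
  rw [← alt_pairs, OrderFormula.count, ← Nat.card_eq_finsetCard]
  symm
  refine Nat.card_eq_of_bijective (fun p =>
    ⟨((e.symm p.1.1 : G), t * (e.symm p.1.2 : G)), ?_, ?_, ?_⟩) ⟨?_, ?_⟩
  · obtain ⟨p, hp⟩ := p
    simp only [Finset.mem_filter, Finset.mem_product, Finset.mem_univ, true_and] at hp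
    have ho : orderOf ((e.symm p.1 : B) : G) = 2 := by
      rw [Subgroup.orderOf_coe, MulEquiv.orderOf_eq]
      exact CfsgLib.Invol.orderOf_eq_two hp.1.1.2 hp.1.1.1
    exact (h.hBz _ (e.symm p.1).2 ho).symm
  · obtain ⟨p, hp⟩ := p
    simp only [Finset.mem_filter, Finset.mem_product, Finset.mem_univ, true_and] at hp
    set b := ((e.symm p.2 : B) : G) with hb
    have hbb : b * b = 1 := by
      rw [hb, ← Subgroup.coe_mul, ← map_mul, hp.1.2, map_one, Subgroup.coe_one]
    have hbt := htB b (e.symm p.2).2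
    have ho : orderOf (t * b) = 2 := by
      rw [h2of]
      refine ⟨?_, fun hh => ?_⟩
      · calc t * b * (t * b) = t * (b * t) * b := by group
          _ = t * (t * b) * b := by rw [hbt.eq]
          _ = (t * t) * (b * b) := by group
          _ = 1 := by rw [htt, hbb, mul_one]
      · have := (h.decomp_unique h.htV V.one_mem (e.symm p.2).2 B.one_mem (by rw [hh, mul_one])).1
        exact ht1 this
    refine (h.hCt _ (Subgroup.mul_mem _ (hVC h.htV) (hBC (e.symm p.2).2)) ho fun hmem => ?_).symm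
    have : t ∈ V ⊓ B := ⟨h.htV, by
      have := B.mul_mem hmem (B.inv_mem (e.symm p.2).2)
      rwa [mul_inv_cancel_right] at this⟩
    rw [hbot, Subgroup.mem_bot] at this
    exact ht1 this
  · obtain ⟨p, hp⟩ := p
    simp only [Finset.mem_filter, Finset.mem_product, Finset.mem_univ, true_and] at hp
    have hc : Commute ((e.symm p.1 : B) : G) t := (htB _ (e.symm p.1).2).symm
    have hmul : ((e.symm p.1 : B) : G) * (t * (e.symm p.2 : G)) = t * ((e.symm (p.1 * p.2) : B) : G) := by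
      rw [map_mul, Subgroup.coe_mul, ← mul_assoc, hc.eq, mul_assoc]
    show t ∈ Subgroup.zpowers (((e.symm p.1 : B) : G) * (t * (e.symm p.2 : G)))
    rw [hmul]
    refine Subgroup.mem_zpowers_iff.2 ⟨((15 : ℕ) : ℤ), ?_⟩
    rw [zpow_natCast, (htB _ (e.symm (p.1 * p.2)).2).mul_pow, ← SubmonoidClass.coe_pow, ← map_pow,
      hp.2, map_one, Subgroup.coe_one, mul_one, show 15 = 2 * 7 + 1 by rfl, pow_succ, pow_mul, sq, htt,
      one_pow, one_mul]
  · intro p q hpq
    simp only [Subtype.mk.injEq, Prod.mk.injEq, mul_right_inj] at hpq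
    exact Subtype.ext (Prod.ext (e.symm.injective (Subtype.ext hpq.1))
      (e.symm.injective (Subtype.ext hpq.2)))
  · rintro ⟨⟨u, v⟩, hu, hv, hm⟩
    change IsConj z u at hu
    change IsConj t v at hv
    change t ∈ Subgroup.zpowers (u * v) at hm
    have hu2 : orderOf u = 2 := (conj_order hu).symm.trans h.hz
    have hv2 : orderOf v = 2 := (conj_order hv).symm.trans h.ht
    have huu := CfsgLib.Invol.mul_self_eq_one hu2
    have hvv := CfsgLib.Invol.mul_self_eq_one hv2
    obtain ⟨k, hk⟩ := Subgroup.mem_zpowers_iff.1 hm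
    have hinv : u * (u * v) * u⁻¹ = (u * v)⁻¹ := by
      rw [mul_inv_rev, inv_eq_of_mul_eq_one_left huu, inv_eq_of_mul_eq_one_left hvv,
        ← mul_assoc u u v, huu, one_mul]
    have hut : u * t * u⁻¹ = t := by
      rw [← hk, ← conj_zpow, hinv, inv_zpow, hk, inv_eq_of_mul_eq_one_left htt]
    have huC : u ∈ Subgroup.centralizer ({t} : Set G) :=
      Subgroup.mem_centralizer_singleton_iff.2 (mul_inv_eq_iff_eq_mul.1 hut)
    have hvC : v ∈ Subgroup.centralizer ({t} : Set G) := by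
      have h1 : u * v ∈ Subgroup.centralizer ({t} : Set G) := Subgroup.mem_centralizer_singleton_iff.2 (by
        rw [← hk]; exact ((Commute.refl (u * v)).zpow_right k).eq)
      have := Subgroup.mul_mem _ (Subgroup.inv_mem _ huC) h1
      rwa [inv_mul_cancel_left] at this
    have huB := ((h.zclass_iff huC).1 hu).1
    obtain ⟨w, hw, b, hb, hwb⟩ := h.mem_cent_iff.1 hvC
    have hcw : ∀ c ∈ B, Commute w c := fun c hc => hcomm w hw c hc
    have huv : u * v = w * (u * b) := by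
      rw [← hwb, ← mul_assoc, ← (hcw u huB).eq, mul_assoc]
    have hww : w * w = 1 := by rw [← pow_two]; exact h.hV2 w hw
    have hbb : b * b = 1 := by
      refine (h.decomp_unique V.one_mem V.one_mem (B.mul_mem hb hb) B.one_mem ?_).2
      rw [one_mul, one_mul]
      have h1 : w * b * (w * b) = 1 := by rw [hwb]; exact hvv
      calc b * b = (w * w) * (b * b) := by rw [hww, one_mul]
        _ = w * (w * b) * b := by group
        _ = w * (b * w) * b := by rw [(hcw b hb).eq]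
        _ = w * b * (w * b) := by group
        _ = 1 := h1
    obtain ⟨hwk, hbk⟩ := h.decomp_unique (V.zpow_mem hw k) h.htV
      (B.zpow_mem (B.mul_mem huB hb) k) B.one_mem (by
        rw [mul_one, ← (hcw _ (B.mul_mem huB hb)).mul_zpow, ← huv, hk])
    have hw2 : w ^ (2 : ℤ) = 1 := by rw [zpow_two, hww]
    obtain ⟨m, rfl⟩ : Odd k := by
      by_contra hko
      obtain ⟨m, rfl⟩ := Int.not_odd_iff_even.1 hko
      rw [← two_mul, zpow_mul, hw2, one_zpow] at hwk
      exact ht1 hwk.symm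
    rw [zpow_add_one, zpow_mul, hw2, one_zpow, one_mul] at hwk
    subst hwk
    have h15 : (e ⟨u, huB⟩ * e ⟨b, hb⟩) ^ 15 = 1 := by
      set g := e ⟨u, huB⟩ * e ⟨b, hb⟩ with hg
      have hgk : g ^ (2 * m + 1) = 1 := by
        rw [hg, ← map_mul, ← map_zpow, MulEquiv.map_eq_one_iff]
        exact Subtype.ext hbk
      have hd1 : (orderOf g : ℤ) ∣ 2 * m + 1 := orderOf_dvd_iff_zpow_eq_one.2 hgk
      have hd2 : orderOf g ∣ 60 := alt_card ▸ orderOf_dvd_card
      have hodd : ¬ 2 ∣ orderOf g := by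
        intro h2
        have h2' : (2 : ℤ) ∣ 2 * m + 1 := dvd_trans (by exact_mod_cast h2) hd1
        omega
      apply orderOf_dvd_iff_pow_eq_one.1
      exact (((Nat.Prime.coprime_iff_not_dvd Nat.prime_two).2 hodd).pow_left 2).symm.dvd_of_dvd_mul_left
        (show orderOf g ∣ 2 ^ 2 * 15 from hd2)
    refine ⟨⟨(e ⟨u, huB⟩, e ⟨b, hb⟩), ?_⟩, Subtype.ext (Prod.ext ?_ ?_)⟩
    · simp only [Finset.mem_filter, Finset.mem_product, Finset.mem_univ, true_and]
      refine ⟨⟨⟨?_, ?_⟩, ?_⟩, h15⟩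
      · rw [← map_mul, show (⟨u, huB⟩ : B) * ⟨u, huB⟩ = 1 from Subtype.ext huu, map_one]
      · intro hh
        rw [MulEquiv.map_eq_one_iff] at hh
        have := congrArg Subtype.val hh
        change u = 1 at this
        rw [this, orderOf_one] at hu2; omega
      · rw [← map_mul, show (⟨b, hb⟩ : B) * ⟨b, hb⟩ = 1 from Subtype.ext hbb, map_one]
    · simp
    · simp [hwb]

/-- Two commuting involutions of the two classes have elementary centralizer of order sixteen. -/
theorem cent_pair {x y : G} (hx : IsConj z x) (hy : IsConj t y) (hxy : Commute x y) :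
    Nat.card ↥(Subgroup.centralizer ({y} : Set G) ⊓ Subgroup.centralizer ({x} : Set G)) = 16 ∧
    (∀ a ∈ Subgroup.centralizer ({y} : Set G) ⊓ Subgroup.centralizer ({x} : Set G), a * a = 1) ∧
    ∃ E₀ : Subgroup G, Nat.card E₀ = 4 ∧ x ∈ E₀ ∧
      (∀ a ∈ Subgroup.centralizer ({y} : Set G) ⊓ Subgroup.centralizer ({x} : Set G),
        IsConj z a → a ∈ E₀) ∧
      E₀ ≤ Subgroup.centralizer ({y} : Set G) ⊓ Subgroup.centralizer ({x} : Set G) := by
  classical
  obtain ⟨g, rfl⟩ := isConj_iff.1 hy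
  obtain ⟨hVC, hBC, hcomm, hbot, -⟩ := h.hVB
  obtain ⟨e⟩ := h.hB
  set x' := g⁻¹ * x * g with hx'
  set φ : G ≃* G := MulAut.conj g with hφ
  have hφx : φ x' = x := by rw [hφ, MulAut.conj_apply, hx']; group
  have hx't : x' ∈ Subgroup.centralizer ({t} : Set G) := Subgroup.mem_centralizer_singleton_iff.2 (by
    calc g⁻¹ * x * g * t = g⁻¹ * (x * (g * t * g⁻¹)) * g := by group
      _ = g⁻¹ * (g * t * g⁻¹ * x) * g := by rw [hxy.eq]
      _ = t * (g⁻¹ * x * g) := by group)
  have hx'z : IsConj z x' := hx.trans (isConj_iff.2 ⟨g⁻¹, by rw [hx', inv_inv]⟩)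
  obtain ⟨hx'B, hx'2⟩ := (h.zclass_iff hx't).1 hx'z
  set a := e ⟨x', hx'B⟩ with ha
  have ha2 : a * a = 1 := by
    rw [ha, ← map_mul, show (⟨x', hx'B⟩ : B) * ⟨x', hx'B⟩ = 1 from
      Subtype.ext (CfsgLib.Invol.mul_self_eq_one hx'2), map_one]
  have ha1 : a ≠ 1 := fun hh => by
    rw [ha, MulEquiv.map_eq_one_iff] at hh
    have := congrArg Subtype.val hh
    change x' = 1 at this
    rw [this, orderOf_one] at hx'2; omega
  obtain ⟨hC4, hCf⟩ := alt_cent a ha2 ha1
  set E := Subgroup.centralizer ({t} : Set G) ⊓ Subgroup.centralizer ({x'} : Set G) with hE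
  set F := B ⊓ Subgroup.centralizer ({x'} : Set G) with hF
  have hFiff : ∀ b : B, (b : G) ∈ F ↔ a * e b = e b * a := fun b => by
    constructor
    · intro hb
      rw [ha, ← map_mul, ← map_mul]
      exact congrArg e (Subtype.ext (Subgroup.mem_centralizer_singleton_iff.1 hb.2).symm)
    · intro hb
      rw [ha, ← map_mul, ← map_mul] at hb
      exact ⟨b.2, Subgroup.mem_centralizer_singleton_iff.2 (congrArg Subtype.val (e.injective hb)).symm⟩
  have hF4 : Nat.card F = 4 := by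
    rw [← hC4, ← Nat.card_eq_finsetCard]
    refine Nat.card_congr
      { toFun := fun b => ⟨e ⟨b.1, b.2.1⟩, Finset.mem_filter.2
          ⟨Finset.mem_univ _, (hFiff ⟨b.1, b.2.1⟩).1 b.2⟩⟩
        invFun := fun c => ⟨(e.symm c.1 : G), (hFiff (e.symm c.1)).2 (by
          rw [e.apply_symm_apply]; exact (Finset.mem_filter.1 c.2).2)⟩
        left_inv := fun b => by simp
        right_inv := fun c => by simp }
  have hFsq : ∀ b ∈ F, b * b = 1 := fun b hb => by
    have h1 := (hCf (e ⟨b, hb.1⟩) (Finset.mem_filter.2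
      ⟨Finset.mem_univ _, (hFiff ⟨b, hb.1⟩).1 hb⟩)).1
    rw [← map_mul, MulEquiv.map_eq_one_iff] at h1
    exact congrArg Subtype.val h1
  have hEiff : ∀ c : G, c ∈ E ↔ ∃ v ∈ V, ∃ b ∈ F, v * b = c := by
    intro c
    constructor
    · rintro ⟨h1, h2⟩
      obtain ⟨v, hv, b, hb, rfl⟩ := h.mem_cent_iff.1 h1
      have hvx : v ∈ Subgroup.centralizer ({x'} : Set G) :=
        Subgroup.mem_centralizer_singleton_iff.2 (hcomm v hv x' hx'B)
      have := Subgroup.mul_mem _ (Subgroup.inv_mem _ hvx) h2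
      rw [inv_mul_cancel_left] at this
      exact ⟨v, hv, b, ⟨hb, this⟩, rfl⟩
    · rintro ⟨v, hv, b, hb, rfl⟩
      exact ⟨Subgroup.mul_mem _ (hVC hv) (hBC hb.1), Subgroup.mul_mem _
        (Subgroup.mem_centralizer_singleton_iff.2 (hcomm v hv x' hx'B)) hb.2⟩
  have hE16 : Nat.card E = 16 := by
    have hb : Nat.card (V × F) = 16 := by rw [Nat.card_prod, h.hV, hF4]
    rw [← hb]
    refine (Nat.card_eq_of_bijective (fun p => (⟨(p.1 : G) * (p.2 : G),
      (hEiff _).2 ⟨_, p.1.2, _, p.2.2, rfl⟩⟩ : E)) ⟨?_, ?_⟩).symm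
    · intro p q hpq
      obtain ⟨h1, h2⟩ := h.decomp_unique p.1.2 q.1.2 p.2.2.1 q.2.2.1 (congrArg Subtype.val hpq)
      exact Prod.ext (Subtype.ext h1) (Subtype.ext h2)
    · rintro ⟨c, hc⟩
      obtain ⟨v, hv, b, hb, rfl⟩ := (hEiff c).1 hc
      exact ⟨(⟨v, hv⟩, ⟨b, hb⟩), rfl⟩
  have hEsq : ∀ c ∈ E, c * c = 1 := fun c hc => by
    obtain ⟨v, hv, b, hb, rfl⟩ := (hEiff c).1 hc
    have hvv : v * v = 1 := by rw [← pow_two]; exact h.hV2 v hv
    calc v * b * (v * b) = v * (b * v) * b := by group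
      _ = v * (v * b) * b := by rw [hcomm v hv b hb.1]
      _ = (v * v) * (b * b) := by group
      _ = 1 := by rw [hvv, hFsq b hb, mul_one]
  have hmapE : E.map φ.toMonoidHom =
      Subgroup.centralizer ({g * t * g⁻¹} : Set G) ⊓ Subgroup.centralizer ({x} : Set G) := by
    have hC : ∀ w : G, (Subgroup.centralizer ({w} : Set G)).map φ.toMonoidHom =
        Subgroup.centralizer ({φ w} : Set G) := fun w => by
      ext c
      rw [Subgroup.mem_map_equiv, Subgroup.mem_centralizer_singleton_iff,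
        Subgroup.mem_centralizer_singleton_iff, ← φ.injective.eq_iff, map_mul, map_mul,
        φ.apply_symm_apply]
    rw [hE, Subgroup.map_inf _ _ _ φ.injective, hC, hC, hφx, hφ, MulAut.conj_apply]
  refine ⟨?_, ?_, F.map φ.toMonoidHom, ?_, ?_, ?_, ?_⟩
  · rw [← hmapE, Subgroup.card_map_of_injective φ.injective, hE16]
  · rw [← hmapE]
    rintro _ ⟨c, hc, rfl⟩
    rw [← map_mul, hEsq c hc, map_one]
  · rw [Subgroup.card_map_of_injective φ.injective, hF4]
  · exact ⟨x', ⟨hx'B, Subgroup.mem_centralizer_singleton_iff.2 rfl⟩, hφx⟩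
  · rw [← hmapE]
    rintro _ ⟨c, hc, rfl⟩ hcz
    have hcz' : IsConj z c := hcz.trans (isConj_iff.2 ⟨g⁻¹, by
      show g⁻¹ * (g * c * g⁻¹) * g⁻¹⁻¹ = c
      group⟩)
    exact ⟨c, ⟨((h.zclass_iff hc.1).1 hcz').1, hc.2⟩, rfl⟩
  · rw [← hmapE]
    exact Subgroup.map_mono (fun b hb => (hEiff b).2 ⟨1, V.one_mem, b, hb, one_mul b⟩)

end CtHyp

end CfsgLib.InvChar.J2Order
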